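import Cfsg.Agent.Lib.SmallGroups.DegreeEleven.Sharp
import Cfsg.Agent.Lib.SmallGroups.RecogPSL
import Cfsg.Agent.S0676
import Mathlib

/-!
Non-solvable transitive groups of degree eleven.
-/

set_option autoImplicit false

namespace CfsgLib.SmallGroups.DegreeEleven

open Equiv MulAction

variable {α : Type*} [Fintype α] [DecidableEq α] {G : Subgroup (Perm α)} [hp : Fact (Nat.Prime 11)]
  [IsPretransitive G α]

theorem isSimple_660 (hα : Fintype.card α = 11) (hns : ¬ Group.IsSolvable G)
    (hA : ¬ alternatingGroup α ≤ G) (hH : G ≤ alternatingGroup α) (hc : Nat.card G = 660) :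
    IsSimpleGroup G := by
  classical
  haveI : Nontrivial G := Finite.one_lt_card_iff_nontrivial.mp (by omega)
  haveI hprim : IsPreprimitive G α :=
    IsPreprimitive.of_prime_card (by rw [Nat.card_eq_fintype_card, hα]; norm_num)
  refine ⟨fun N hN => ?_⟩
  by_cases hfix : fixedPoints N α = Set.univ
  · left
    rw [eq_bot_iff]
    intro d hd
    refine Subgroup.mem_bot.mpr (Subtype.ext (Equiv.ext fun x => ?_))
    have hx : x ∈ fixedPoints N α := hfix ▸ Set.mem_univ x
    exact hx ⟨d, hd⟩
  right
  haveI : IsPretransitive N α := IsQuasiPreprimitive.isPretransitive_of_normal hfix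
  set N' := N.map G.subtype with hN'
  haveI : IsPretransitive N' α := ⟨fun x y => by
    obtain ⟨g, hg⟩ := exists_smul_eq N x y
    exact ⟨⟨((g : G) : Perm α), Subgroup.mem_map_of_mem G.subtype g.2⟩, hg⟩⟩
  have hc' : Nat.card N' = Nat.card N := Subgroup.card_map_of_injective G.subtype_injective
  have hNle : N' ≤ G := Subgroup.map_subtype_le N
  by_cases hsol : Group.IsSolvable N'
  · exfalso
    obtain ⟨σ, hσN, hσ, hσn⟩ := le_normalizer_of_isSolvable hα N' hsol
    obtain ⟨s, hs, rfl⟩ := hσN
    have hso : orderOf s = 11 := by rw [← hσ]; exact (Subgroup.orderOf_coe s).symm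
    have hcP : Nat.card (Subgroup.zpowers s) = 11 ^ (Nat.card G).factorization 11 := by
      rw [Nat.card_zpowers, hso, hc]
      have h1 : 11 ^ 1 ∣ 660 := by norm_num
      have h2 : ¬ 11 ^ 2 ∣ 660 := by norm_num
      rw [hp.out.pow_dvd_iff_le_factorization (by norm_num)] at h1 h2
      rw [show (660 : ℕ).factorization 11 = 1 by omega, pow_one]
    set P : Sylow 11 G := Sylow.ofCard (Subgroup.zpowers s) hcP with hP
    have hPs : (P : Subgroup G) = Subgroup.zpowers s := by rw [hP, Sylow.coe_ofCard]
    have hPN : (P : Subgroup G) ≤ N := by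
      rw [hPs, Subgroup.zpowers_le]; exact hs
    have hmapP : ∀ g : G, g ∈ Subgroup.zpowers s ↔
        (g : Perm α) ∈ Subgroup.zpowers (G.subtype s) := by
      intro g
      rw [← MonoidHom.map_zpowers]
      exact (Subgroup.mem_map_iff_mem G.subtype_injective).symm
    have hNN : N ≤ Subgroup.normalizer ((P : Subgroup G) : Set G) := by
      intro n hn x
      rw [SetLike.mem_coe, SetLike.mem_coe, hPs, hmapP, hmapP]
      exact (hσn (Subgroup.mem_map_of_mem G.subtype hn)) _
    have htop : Subgroup.normalizer ((P : Subgroup G) : Set G) = ⊤ := by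
      rw [← Sylow.normalizer_sup_eq_top' P hPN]
      exact (sup_eq_left.mpr hNN).symm
    have := card_sylow_normalizer hα hns hH P
    rw [htop, Subgroup.card_top, hc] at this
    omega
  · apply Subgroup.eq_top_of_card_eq
    have h := card_eq hα hsol (fun h => hA (h.trans hNle)) (hNle.trans hH)
    have hd := N.card_subgroup_dvd_card
    rw [hc] at hd ⊢
    rw [hc'] at h
    rcases h with h | h
    · exact h
    · rw [h] at hd; norm_num at hd

theorem nonempty_psl_of_card (hα : Fintype.card α = 11) (hns : ¬ Group.IsSolvable G)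
    (hA : ¬ alternatingGroup α ≤ G) (hH : G ≤ alternatingGroup α) (hc : Nat.card G = 660) :
    Nonempty (G ≃* Matrix.ProjectiveSpecialLinearGroup (Fin 2) (ZMod 11)) := by
  haveI := isSimple_660 hα hns hA hH hc
  refine RecogPSL.nonempty_psl (p := 11) (d := 5) (by rw [hc]) (by norm_num) ?_ ?_ (ZMod.card 11)
  · decide
  · decide

theorem main (hα : Fintype.card α = 11) (hns : ¬ Group.IsSolvable G)
    (hA : ¬ alternatingGroup α ≤ G) :
    (IsMultiplyPretransitive G α 4 ∧ ∀ x : Fin 4 ↪ α, stabilizer G x = ⊥) ∨
      Nonempty (G ≃* Matrix.ProjectiveSpecialLinearGroup (Fin 2) (ZMod 11)) := by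
  classical
  by_cases hG : G ≤ alternatingGroup α
  · rcases card_eq hα hns hA hG with h | h
    · exact Or.inr (nonempty_psl_of_card hα hns hA hG h)
    · exact Or.inl (sharply_four hα hns hA hG h)
  exfalso
  obtain ⟨u, huG, hu'⟩ := SetLike.not_le_iff_exists.mp hG
  have hu : Perm.sign u = -1 := (Int.units_eq_one_or _).resolve_left
    (fun h => hu' (Perm.mem_alternatingGroup.mpr h))
  haveI hprim : IsPreprimitive G α :=
    IsPreprimitive.of_prime_card (by rw [Nat.card_eq_fintype_card, hα]; norm_num)
  set ψ : G →* ℤˣ := Perm.sign.comp G.subtype with hψ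
  set K := ψ.ker with hK
  set H := K.map G.subtype with hH'
  have hmemH : ∀ g, g ∈ H ↔ g ∈ G ∧ Perm.sign g = 1 := by
    intro g
    constructor
    · rintro ⟨x, hx, rfl⟩
      exact ⟨x.2, hx⟩
    · exact fun h => ⟨⟨g, h.1⟩, h.2, rfl⟩
  have hHG : H ≤ G := fun g hg => ((hmemH g).mp hg).1
  have hHA : H ≤ alternatingGroup α := fun g hg => Perm.mem_alternatingGroup.mpr ((hmemH g).mp hg).2
  have hc2 : Nat.card G = 2 * Nat.card H := by
    rw [Subgroup.card_map_of_injective G.subtype_injective, ← K.card_mul_index, mul_comm]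
    congr 1
    have hsurj : Function.Surjective ψ := by
      intro z
      rcases Int.units_eq_one_or z with rfl | rfl
      · exact ⟨1, map_one _⟩
      · exact ⟨⟨u, huG⟩, hu⟩
    rw [hK, Subgroup.index_ker, MonoidHom.range_eq_top.mpr hsurj, Subgroup.card_top,
      Nat.card_eq_fintype_card]
    decide
  have hsolK : ¬ Group.IsSolvable K := fun h => hns
    (Group.isSolvable_of_ker_le_range K.subtype ψ (by rw [Subgroup.range_subtype]))
  have hnsH : ¬ Group.IsSolvable H := fun h => by
    let e : K ≃* H := K.equivMapOfInjective _ G.subtype_injective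
    exact hsolK (Group.isSolvable_of_isSolvable_injective (f := e.toMonoidHom) e.injective)
  have hfix : fixedPoints K α ≠ Set.univ := by
    intro h
    apply hsolK
    haveI : Subsingleton K := ⟨fun x y => Subtype.ext (Subtype.ext (Equiv.ext fun z => by
      have hz : z ∈ fixedPoints K α := h ▸ Set.mem_univ z
      exact (hz x).trans (hz y).symm))⟩
    infer_instance
  haveI : IsPretransitive K α := IsQuasiPreprimitive.isPretransitive_of_normal hfix
  haveI : IsPretransitive H α := ⟨fun x y => by
    obtain ⟨g, hg⟩ := exists_smul_eq K x y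
    exact ⟨⟨((g : G) : Perm α), Subgroup.mem_map_of_mem G.subtype g.2⟩, hg⟩⟩
  have hAH : ¬ alternatingGroup α ≤ H := fun h => hA (h.trans hHG)
  rcases card_eq hα hnsH hAH hHA with h | h
  · obtain ⟨P⟩ : Nonempty (Sylow 11 G) := inferInstance
    have heven : Even (Nat.card (Subgroup.normalizer ((P : Subgroup G) : Set G))) := by
      by_contra hodd
      rw [Nat.not_even_iff_odd] at hodd
      have hN : Subgroup.normalizer ((P : Subgroup G) : Set G) ≤ K := by
        intro g hg
        rw [hK, MonoidHom.mem_ker]
        have h1 : ψ g ^ Nat.card (Subgroup.normalizer ((P : Subgroup G) : Set G)) = 1 := by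
          rw [← map_pow]
          exact (congrArg ψ (congrArg Subtype.val (pow_card_eq_one' (x := (⟨g, hg⟩ :
            Subgroup.normalizer ((P : Subgroup G) : Set G)))))).trans (map_one ψ)
        rcases Int.units_eq_one_or (ψ g) with h | h
        · exact h
        · rw [h, hodd.neg_one_pow] at h1; exact absurd h1 (by decide)
      have := Sylow.normalizer_sup_eq_top' P (N := K) (Subgroup.le_normalizer.trans hN)
      replace := (sup_eq_right.mpr hN).symm.trans this
      have hu1 : (⟨u, huG⟩ : G) ∈ K := this ▸ Subgroup.mem_top _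
      rw [hK, MonoidHom.mem_ker] at hu1
      exact absurd (hu1.symm.trans hu) (by decide)
    have h3 := Cfsg.Agent.S0676.result hα G hns P heven
    obtain ⟨x0⟩ : Nonempty (Fin 3 ↪ α) := Function.Embedding.nonempty_of_card_le (by simp [hα])
    have h1 := (stabilizer G x0).index_dvd_card
    rw [KpAddR.index_stabilizer_of_multiplyPretransitive h3 x0, hc2, h,
      Nat.card_eq_fintype_card, Fintype.card_embedding_eq, Fintype.card_fin, hα] at h1
    exact absurd h1 (by decide)
  · exact no_odd_overgroup hα hnsH hAH hHA h hmemH hprim hA huG hu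

end CfsgLib.SmallGroups.DegreeEleven
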