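import Cfsg.Agent.Lib.SmallGroups.DegreeEleven.Normalizer
import Cfsg.Agent.S0675
import Mathlib

/-!
The group of order `7920` of degree eleven is sharply four-transitive, and has no overgroup of
index two.
-/

set_option autoImplicit false

namespace CfsgLib.SmallGroups.DegreeEleven

open Equiv MulAction

variable {α : Type*} [Fintype α] [DecidableEq α] {H : Subgroup (Perm α)}

theorem exists_map_pair (hα : Fintype.card α = 11) (h2 : IsMultiplyPretransitive H α 2)
    {a b p q : α} (hab : a ≠ b) (hpq : p ≠ q) : ∃ g ∈ H, g a = p ∧ g b = q := by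
  obtain ⟨g, hg, hgv⟩ := exists_mem_eq_on_finset h2 (by omega) {a, b} Finset.card_le_two
    (fun z => if z = a then p else q) (by
      intro u hu v hv huv
      simp only [Finset.coe_insert, Finset.coe_singleton, Set.mem_insert_iff,
        Set.mem_singleton_iff] at hu hv
      rcases hu with rfl | rfl <;> rcases hv with rfl | rfl <;>
        simp [hab.symm, hpq, hpq.symm] at huv ⊢)
  exact ⟨g, hg, by simpa using hgv a (by simp), by simpa [hab.symm] using hgv b (by simp)⟩

/-- No Steiner triple system on eleven points is invariant under a two-transitive group. -/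
theorem no_triple_system (hα : Fintype.card α = 11) (h2 : IsMultiplyPretransitive H α 2)
    {a b c : α} (hab : a ≠ b) (hac : a ≠ c) (hbc : b ≠ c)
    (hfix : ∀ g ∈ H, g a = a → g b = b → g c = c)
    (hy : ∃ y ∈ H, y a = a ∧ y b = b ∧ ∀ z, y z = z → z = a ∨ z = b ∨ z = c) : False := by
  classical
  set F : Finset α → Finset α :=
    fun s => Finset.univ.filter (fun z => ∀ g ∈ H, (∀ u ∈ s, g u = u) → g z = z) with hF
  have h3 : ({a, b, c} : Finset α).card = 3 := by simp [hab, hac, hbc]
  have hbase : F {a, b} = {a, b, c} := by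
    obtain ⟨y, hyH, hya, hyb, hyfix⟩ := hy
    ext z
    simp only [hF, Finset.mem_filter, Finset.mem_univ, true_and, Finset.mem_insert,
      Finset.mem_singleton, forall_eq_or_imp, forall_eq]
    refine ⟨fun h => hyfix z (h y hyH ⟨hya, hyb⟩), ?_⟩
    rintro (rfl | rfl | rfl) g hg ⟨h1, h2⟩
    · exact h1
    · exact h2
    · exact hfix g hg h1 h2
  have hcard : ∀ s : Finset α, s.card = 2 → (F s).card = 3 := by
    intro s hs
    obtain ⟨p, q, hpq, rfl⟩ := Finset.card_eq_two.mp hs
    obtain ⟨g, hg, ga, gb⟩ := exists_map_pair hα h2 hab hpq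
    have himage : F {p, q} = (F {a, b}).image g := by
      ext z
      simp only [hF, Finset.mem_filter, Finset.mem_univ, true_and, Finset.mem_image,
        Finset.mem_insert, Finset.mem_singleton, forall_eq_or_imp, forall_eq]
      constructor
      · intro h
        refine ⟨g⁻¹ z, fun k hk hkab => ?_, by simp⟩
        have := h (g * k * g⁻¹) (mul_mem (mul_mem hg hk) (inv_mem hg))
          ⟨by rw [← ga]; simp [hkab.1], by rw [← gb]; simp [hkab.2]⟩
        simp only [Perm.mul_apply] at this
        exact g.injective (by rw [this]; simp)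
      · rintro ⟨w, hw, rfl⟩ k hk ⟨hkp, hkq⟩
        have := hw (g⁻¹ * k * g) (mul_mem (mul_mem (inv_mem hg) hk) hg)
          ⟨by rw [Perm.mul_apply, Perm.mul_apply, ga, hkp, Perm.inv_eq_iff_eq, ga],
            by rw [Perm.mul_apply, Perm.mul_apply, gb, hkq, Perm.inv_eq_iff_eq, gb]⟩
        simp only [Perm.mul_apply, Perm.inv_eq_iff_eq] at this
        exact this
    rw [himage, Finset.card_image_of_injective _ g.injective, hbase, h3]
  have hsub : ∀ s s' : Finset α, s.card = 2 → s'.card = 2 → s' ⊆ F s → F s' = F s := by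
    intro s s' hs hs' hss
    refine Finset.eq_of_subset_of_card_le ?_ (by rw [hcard s hs, hcard s' hs'])
    intro z hz
    simp only [hF, Finset.mem_filter, Finset.mem_univ, true_and] at hz ⊢
    exact fun g hg hgs => hz g hg fun u hu => by
      have := hss hu
      simp only [hF, Finset.mem_filter, Finset.mem_univ, true_and] at this
      exact this g hg hgs
  set P2 := (Finset.univ : Finset α).powersetCard 2 with hP2
  have hsum := Finset.card_eq_sum_card_image F P2
  have hfib : ∀ T ∈ P2.image F, (P2.filter fun s => F s = T).card = 3 := by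
    intro T hT
    obtain ⟨s, hs, rfl⟩ := Finset.mem_image.mp hT
    have hs2 := (Finset.mem_powersetCard.mp hs).2
    have : (P2.filter fun s' => F s' = F s) = (F s).powersetCard 2 := by
      ext s'
      simp only [hP2, Finset.mem_filter, Finset.mem_powersetCard, Finset.subset_univ, true_and]
      constructor
      · rintro ⟨h1, h2⟩
        refine ⟨fun u hu => h2 ▸ ?_, h1⟩
        simp only [hF, Finset.mem_filter, Finset.mem_univ, true_and]
        exact fun g _ hgs => hgs u hu
      · exact fun h => ⟨h.2, hsub s s' hs2 h.2 h.1⟩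
    rw [this, Finset.card_powersetCard, hcard s hs2]
    rfl
  rw [Finset.sum_congr rfl hfib, Finset.sum_const, hP2, Finset.card_powersetCard, Finset.card_univ,
    hα, smul_eq_mul, show Nat.choose 11 2 = 55 by decide] at hsum
  omega

variable [IsPretransitive H α]

theorem three_transitive (hα : Fintype.card α = 11) (hns : ¬ Group.IsSolvable H)
    (hA : ¬ alternatingGroup α ≤ H) (hH : H ≤ alternatingGroup α) (hc : Nat.card H = 7920) :
    IsMultiplyPretransitive H α 3 := by
  classical
  haveI hprim : IsPreprimitive H α :=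
    IsPreprimitive.of_prime_card (by rw [Nat.card_eq_fintype_card, hα]; norm_num)
  have h2 : IsMultiplyPretransitive H α 2 :=
    (Cfsg.Agent.S0675.result (by rw [hα]; norm_num) H).resolve_left hns
  obtain ⟨y, a, b, c, hyH, hab, hac, hbc, hya, hyb, hyc, hy22, hy2⟩ :=
    exists_four_element hα hprim hA hH hc
  have hyfix : ∀ z, y z = z → z = a ∨ z = b ∨ z = c := fun z hz => hy2 z (by rw [hz, hz])
  set x2 : Fin 2 ↪ α := ⟨![a, b], by
    intro i j h; fin_cases i <;> fin_cases j <;> simp [hab, hab.symm] at h ⊢⟩ with hx2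
  set K := stabilizer H x2 with hK
  have hmemK : ∀ g : H, g ∈ K ↔ (g : Perm α) a = a ∧ (g : Perm α) b = b := by
    intro g
    rw [hK, mem_stabilizer_iff, DFunLike.ext_iff]
    refine ⟨fun h => ⟨h 0, h 1⟩, fun h i => ?_⟩
    fin_cases i <;> [exact h.1; exact h.2]
  have hK72 : Nat.card K = 72 := by
    have h1 := K.card_mul_index
    rw [hK, KpAddR.index_stabilizer_of_multiplyPretransitive h2 x2, hc,
      Nat.card_eq_fintype_card (α := Fin 2 ↪ α), Fintype.card_embedding_eq, Fintype.card_fin, hα,
      show (11 : ℕ).descFactorial 2 = 110 by decide] at h1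
    rw [hK]
    omega
  set O : Finset α := Finset.univ.filter (fun z => z ∈ orbit K c) with hO
  have hmemO : ∀ z, z ∈ O ↔ ∃ g ∈ H, g a = a ∧ g b = b ∧ g c = z := by
    intro z
    simp only [hO, Finset.mem_filter, Finset.mem_univ, true_and, mem_orbit_iff]
    constructor
    · rintro ⟨g, rfl⟩
      exact ⟨_, g.1.2, ((hmemK g.1).mp g.2).1, ((hmemK g.1).mp g.2).2, rfl⟩
    · rintro ⟨g, hg, h1, h2, rfl⟩
      exact ⟨⟨⟨g, hg⟩, (hmemK _).mpr ⟨h1, h2⟩⟩, rfl⟩
  have hdvd : O.card ∣ 72 := by
    have h : O.card = (stabilizer K c).index := by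
      rw [index_stabilizer, Set.ncard_eq_toFinset_card' (orbit K c)]
      congr 1
      ext z
      simp [hO]
    rw [h, ← hK72]
    exact Subgroup.index_dvd_card _
  have hcO : c ∈ O := (hmemO c).mpr ⟨1, one_mem _, rfl, rfl, rfl⟩
  have hOab : O ⊆ ({a, b} : Finset α)ᶜ := by
    intro z hz
    obtain ⟨g, -, h1, h2, rfl⟩ := (hmemO z).mp hz
    simp only [Finset.mem_compl, Finset.mem_insert, Finset.mem_singleton, not_or]
    exact ⟨fun h => hac (g.injective (h1.trans h.symm)), fun h => hbc (g.injective (h2.trans h.symm))⟩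
  have hOy : ∀ z ∈ O, y z ∈ O := by
    intro z hz
    obtain ⟨g, hg, h1, h2, rfl⟩ := (hmemO z).mp hz
    exact (hmemO _).mpr ⟨y * g, mul_mem hyH hg, by simp [h1, hya], by simp [h2, hyb], rfl⟩
  have hOyi : ∀ z, y z ∈ O ↔ z ∈ O := fun z => ⟨fun h => by
    obtain ⟨g, hg, h1, h2, h3⟩ := (hmemO _).mp h
    exact (hmemO _).mpr ⟨y⁻¹ * g, mul_mem (inv_mem hyH) hg,
      by rw [Perm.mul_apply, h1, Perm.inv_eq_iff_eq, hya], by rw [Perm.mul_apply, h2, Perm.inv_eq_iff_eq, hyb],
      by simp [h3]⟩, hOy z⟩
  have hle : O.card ≤ 9 := by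
    refine (Finset.card_le_card hOab).trans ?_
    rw [Finset.card_compl, hα, Finset.card_pair hab]
  have hmod : O.card % 2 = 1 := by
    haveI : Fact (Nat.Prime 2) := ⟨Nat.prime_two⟩
    have hfixc : (O.filter fun z => y (y z) = z) = {c} := by
      ext z
      simp only [Finset.mem_filter, Finset.mem_singleton]
      refine ⟨fun ⟨hz, h⟩ => ?_, fun h => h ▸ ⟨hcO, by rw [hyc, hyc]⟩⟩
      have := hOab hz
      simp only [Finset.mem_compl, Finset.mem_insert, Finset.mem_singleton, not_or] at this
      rcases hy2 z h with h | h | h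
      · exact absurd h this.1
      · exact absurd h this.2
      · exact h
    have h := card_filter_fixed_modEq (p := 2) (y ^ 2) hy22 O (fun z => by
      rw [pow_two, Perm.mul_apply, hOyi, hOyi])
    simp only [pow_two, Perm.mul_apply] at h
    rw [hfixc, Finset.card_singleton] at h
    exact (h.symm : O.card % 2 = 1 % 2)
  have hcases : O.card = 1 ∨ O.card = 9 := by
    have key : ∀ n ∈ Nat.divisors 72, n ≤ 9 → n % 2 = 1 → n = 1 ∨ n = 3 ∨ n = 9 := by decide
    rcases key _ (Nat.mem_divisors.mpr ⟨hdvd, by norm_num⟩) hle hmod with h | h | h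
    · exact Or.inl h
    · exfalso
      obtain ⟨u, v, huv, hO2⟩ := Finset.card_eq_two.mp (show (O.erase c).card = 2 by
        rw [Finset.card_erase_of_mem hcO, h])
      have hu : u ≠ c ∧ u ∈ O := Finset.mem_erase.mp (hO2 ▸ Finset.mem_insert_self _ _)
      have hv : v ≠ c ∧ v ∈ O :=
        Finset.mem_erase.mp (hO2 ▸ Finset.mem_insert_of_mem (Finset.mem_singleton_self _))
      have hmove : ∀ w, w ≠ c → w ∈ O → y w ≠ w ∧ (y w = u ∨ y w = v) := by
        intro w hwc hwO
        have hne : y w ≠ w := fun he => by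
          have := hOab hwO
          simp only [Finset.mem_compl, Finset.mem_insert, Finset.mem_singleton, not_or] at this
          rcases hyfix w he with h | h | h
          · exact this.1 h
          · exact this.2 h
          · exact hwc h
        have hc' : y w ≠ c := fun he => hwc (y.injective (he.trans hyc.symm))
        have := Finset.mem_erase.mpr ⟨hc', hOy w hwO⟩
        rw [hO2, Finset.mem_insert, Finset.mem_singleton] at this
        exact ⟨hne, this⟩
      obtain ⟨h1, h1'⟩ := hmove u hu.1 hu.2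
      obtain ⟨h2, h2'⟩ := hmove v hv.1 hv.2
      have hyu : y u = v := h1'.resolve_left h1
      have hyv : y v = u := h2'.resolve_right h2
      have hab' := hOab hu.2
      simp only [Finset.mem_compl, Finset.mem_insert, Finset.mem_singleton, not_or] at hab'
      rcases hy2 u (by rw [hyu, hyv]) with h | h | h
      · exact hab'.1 h
      · exact hab'.2 h
      · exact hu.1 h
    · exact Or.inr h
  rcases hcases with h1 | h9
  · refine (no_triple_system hα h2 hab hac hbc ?_ ⟨y, hyH, hya, hyb, hyfix⟩).elim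
    intro g hg ga gb
    exact Finset.card_le_one.mp h1.le (g c) ((hmemO _).mpr ⟨g, hg, ga, gb, rfl⟩) c hcO
  have hOeq : O = ({a, b} : Finset α)ᶜ := Finset.eq_of_subset_of_card_le hOab (by
    rw [Finset.card_compl, hα, Finset.card_pair hab, h9])
  set x3 : Fin 3 ↪ α := ⟨![a, b, c], by
    intro i j h; fin_cases i <;> fin_cases j <;>
      simp [hab, hab.symm, hac, hac.symm, hbc, hbc.symm] at h ⊢⟩ with hx3
  have hbase : ∀ x : Fin 3 ↪ α, ∃ g : H, g • x3 = x := by
    intro x
    obtain ⟨g, hg, ga, gb⟩ := exists_map_pair hα h2 hab (fun h => absurd (x.injective h) (by decide) : x 0 ≠ x 1)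
    have hmem : g⁻¹ (x 2) ∈ O := by
      rw [hOeq]
      simp only [Finset.mem_compl, Finset.mem_insert, Finset.mem_singleton, not_or,
        Perm.inv_eq_iff_eq, ga, gb]
      exact ⟨fun h => absurd (x.injective h) (by decide), fun h => absurd (x.injective h) (by decide)⟩
    obtain ⟨k, hk, ka, kb, kc⟩ := (hmemO _).mp hmem
    refine ⟨⟨g * k, mul_mem hg hk⟩, DFunLike.ext _ _ fun i => ?_⟩
    show (g * k) (x3 i) = x i
    rw [Perm.mul_apply]
    fin_cases i
    · show g (k a) = _
      rw [ka, ga]; rfl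
    · show g (k b) = _
      rw [kb, gb]; rfl
    · show g (k c) = _
      rw [kc]; simp
  refine ⟨fun x z => ?_⟩
  obtain ⟨g, rfl⟩ := hbase x
  obtain ⟨k, rfl⟩ := hbase z
  exact ⟨k * g⁻¹, (mul_smul _ _ _).symm.trans (congrArg (fun m : H => m • _) (inv_mul_cancel_right k g))⟩

theorem semiregular (hα : Fintype.card α = 11) (hns : ¬ Group.IsSolvable H)
    (hA : ¬ alternatingGroup α ≤ H) (hH : H ≤ alternatingGroup α) (hc : Nat.card H = 7920)
    {g : Perm α} (hg : g ∈ H) (hsupp : g.support.card ≤ 7) : g = 1 := by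
  classical
  by_contra hg1
  have h3 := three_transitive hα hns hA hH hc
  obtain ⟨z, hz⟩ : ∃ z : Fin 3 ↪ α, ∀ i, g (z i) = z i := by
    obtain ⟨T, hT, hTc⟩ := Finset.exists_subset_card_eq (s := g.supportᶜ) (n := 3) (by
      rw [Finset.card_compl, hα]; omega)
    exact ⟨(T.equivFinOfCardEq hTc).symm.toEmbedding.trans (Function.Embedding.subtype _), fun i =>
      Perm.notMem_support.mp (Finset.mem_compl.mp (hT ((T.equivFinOfCardEq hTc).symm i).2))⟩
  have h8 : Nat.card (stabilizer H z) = 8 := by
    have h1 := (stabilizer H z).card_mul_index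
    rw [KpAddR.index_stabilizer_of_multiplyPretransitive h3 z, hc,
      Nat.card_eq_fintype_card (α := Fin 3 ↪ α), Fintype.card_embedding_eq, Fintype.card_fin, hα,
      show (11 : ℕ).descFactorial 3 = 990 by decide] at h1
    omega
  have hmem : (⟨g, hg⟩ : H) ∈ stabilizer H z :=
    mem_stabilizer_iff.mpr (DFunLike.ext _ _ fun i => hz i)
  have hd : orderOf g ∣ 2 ^ 3 := by
    rw [show (2 : ℕ) ^ 3 = 8 by norm_num, ← h8, ← Subgroup.orderOf_mk g hg,
      ← Subgroup.orderOf_mk (⟨g, hg⟩ : H) hmem]
    exact orderOf_dvd_natCard _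
  obtain ⟨i, -, hi⟩ := (Nat.dvd_prime_pow Nat.prime_two).mp hd
  have hi0 : i ≠ 0 := fun h => hg1 (orderOf_eq_one_iff.mp (by rw [hi, h, pow_zero]))
  have hto : orderOf (g ^ (orderOf g / 2)) = 2 :=
    orderOf_pow_orderOf_div (orderOf_pos g).ne' (by rw [hi]; exact dvd_pow_self 2 hi0)
  have hts : (g ^ (orderOf g / 2)).support.card ≤ 7 :=
    (Finset.card_le_card (Perm.support_pow_le g _)).trans hsupp
  have htH : g ^ (orderOf g / 2) ∈ H := pow_mem hg _
  obtain ⟨j, hj0, hj, hjs⟩ := support_involution hto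
  rw [Perm.mem_alternatingGroup.mp (hH htH)] at hjs
  have hj2 : j = 2 := by
    have : j ≤ 3 := by omega
    interval_cases j
    · exact absurd hjs (by decide)
    · rfl
    · exact absurd hjs (by decide)
  obtain ⟨p, q, r, s, hpq, hrs, hpr, hps, hqr, hqs, hu⟩ := two_mul_swaps hto (by omega)
  exact hA (alternating_le_of_double h3 (by omega) hpq hrs hpr hps hqr hqs (hu ▸ htH))

theorem sharply_four (hα : Fintype.card α = 11) (hns : ¬ Group.IsSolvable H)
    (hA : ¬ alternatingGroup α ≤ H) (hH : H ≤ alternatingGroup α) (hc : Nat.card H = 7920) :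
    IsMultiplyPretransitive H α 4 ∧ ∀ x : Fin 4 ↪ α, stabilizer H x = ⊥ := by
  classical
  have hbot : ∀ x : Fin 4 ↪ α, stabilizer H x = ⊥ := by
    intro x
    rw [eq_bot_iff]
    intro g hg
    refine Subgroup.mem_bot.mpr (Subtype.ext (semiregular hα hns hA hH hc g.2 ?_))
    have hsub : Finset.univ.map x ⊆ ((g : Perm α).support)ᶜ := by
      intro z hz
      obtain ⟨i, -, rfl⟩ := Finset.mem_map.mp hz
      exact Finset.mem_compl.mpr (Perm.notMem_support.mpr (DFunLike.congr_fun (mem_stabilizer_iff.mp hg) i))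
    have := Finset.card_le_card hsub
    rw [Finset.card_map, Finset.card_univ, Fintype.card_fin, Finset.card_compl, hα] at this
    omega
  refine ⟨?_, hbot⟩
  obtain ⟨x0⟩ : Nonempty (Fin 4 ↪ α) := Function.Embedding.nonempty_of_card_le (by simp [hα])
  have huniv : orbit H x0 = Set.univ := by
    have h1 := index_stabilizer H x0
    rw [hbot x0, Subgroup.index_bot, hc] at h1
    refine Set.eq_of_subset_of_ncard_le (Set.subset_univ _) ?_
    rw [Set.ncard_univ, Nat.card_eq_fintype_card, Fintype.card_embedding_eq, Fintype.card_fin,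
      hα]
    exact (show Nat.descFactorial 11 4 = 7920 by decide).trans h1 |>.le
  refine ⟨fun x z => ?_⟩
  obtain ⟨g, rfl⟩ : x ∈ orbit H x0 := huniv ▸ Set.mem_univ x
  obtain ⟨k, rfl⟩ : z ∈ orbit H x0 := huniv ▸ Set.mem_univ z
  exact ⟨k * g⁻¹, (mul_smul _ _ _).symm.trans (congrArg (fun m : H => m • _) (inv_mul_cancel_right k g))⟩

/-- A group of order `15840` containing the one of order `7920` does not exist. -/
theorem no_odd_overgroup (hα : Fintype.card α = 11) (hns : ¬ Group.IsSolvable H)
    (hA : ¬ alternatingGroup α ≤ H) (hH : H ≤ alternatingGroup α) (hc : Nat.card H = 7920)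
    {G : Subgroup (Perm α)} (hHG : ∀ g, g ∈ H ↔ g ∈ G ∧ Perm.sign g = 1)
    (hprim : IsPreprimitive G α) (hAG : ¬ alternatingGroup α ≤ G)
    {u : Perm α} (huG : u ∈ G) (hu : Perm.sign u = -1) : False := by
  classical
  haveI : Fact (Nat.Prime 5) := ⟨Nat.prime_five⟩
  have h4 := (sharply_four hα hns hA hH hc).1
  have hsemi : ∀ g ∈ G, Perm.sign g = 1 → g.support.card ≤ 7 → g = 1 := fun g hg hs h =>
    semiregular hα hns hA hH hc ((hHG g).mpr ⟨hg, hs⟩) h
  set S : Finset (Perm α) :=
    Finset.univ.filter (fun s => s ∈ G ∧ s ≠ 1 ∧ s.support.card ≤ 7) with hS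
  have hmemS : ∀ s, s ∈ S ↔ s ∈ G ∧ s ≠ 1 ∧ s.support.card ≤ 7 := by simp [hS]
  have hodd : ∀ s ∈ S, Perm.sign s = -1 := by
    intro s hs
    obtain ⟨h1, h2, h3⟩ := (hmemS s).mp hs
    exact (Int.units_eq_one_or _).resolve_left fun h => h2 (hsemi s h1 h h3)
  have hsix : ∀ s ∈ S, s.supportᶜ.card = 5 := by
    intro s hs
    obtain ⟨h1, h2, h3⟩ := (hmemS s).mp hs
    have hss : s * s = 1 := hsemi _ (mul_mem h1 h1) (by rw [map_mul, hodd s hs]; decide)
      ((Finset.card_le_card (by rw [← pow_two]; exact Perm.support_pow_le s 2)).trans h3)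
    obtain ⟨j, hj0, hj, hjs⟩ := support_involution (orderOf_eq_prime (by rw [pow_two]; exact hss) h2)
    rw [hodd s hs] at hjs
    have : j ≤ 3 := by omega
    interval_cases j
    · exact absurd (Perm.subgroup_eq_top_of_isPreprimitive_of_isSwap_mem hprim s
        (Perm.card_support_eq_two.mp hj) h1) (fun h => hAG (h ▸ le_top))
    · exact absurd hjs (by decide)
    · rw [Finset.card_compl, hα, hj]
  have hex : ∀ T ∈ (Finset.univ : Finset α).powersetCard 4, ∃ s ∈ S, T ⊆ s.supportᶜ ∧
      ∀ s' ∈ S, T ⊆ s'.supportᶜ → s' = s := by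
    intro T hT
    have hTc := (Finset.mem_powersetCard.mp hT).2
    obtain ⟨g, hg, hgv⟩ := exists_mem_eq_on_finset h4 (by omega) (T.image u)
      (Finset.card_image_le.trans hTc.le) (⇑u⁻¹) u⁻¹.injective.injOn
    obtain ⟨hgG, hgs⟩ := (hHG g).mp hg
    have hfix : T ⊆ (g * u).supportᶜ := by
      intro z hz
      rw [Finset.mem_compl, Perm.notMem_support, Perm.mul_apply,
        hgv _ (Finset.mem_image_of_mem u hz)]
      simp
    have hsn : Perm.sign (g * u) = -1 := by rw [map_mul, hgs, hu, one_mul]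
    have hcard : ∀ v : Perm α, T ⊆ v.supportᶜ → v.support.card ≤ 7 := fun v hv => by
      have := Finset.card_le_card hv
      rw [Finset.card_compl, hα, hTc] at this
      omega
    refine ⟨g * u, (hmemS _).mpr ⟨mul_mem hgG huG, fun h => ?_, hcard _ hfix⟩, hfix, ?_⟩
    · rw [h, map_one] at hsn; exact absurd hsn (by decide)
    intro s' hs' hTs'
    obtain ⟨h1, -, -⟩ := (hmemS s').mp hs'
    have hprod : ∀ v w : Perm α, T ⊆ v.supportᶜ → T ⊆ w.supportᶜ → T ⊆ (v * w).supportᶜ :=
      fun v w hv hw z hz => by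
        have h1 := Perm.notMem_support.mp (Finset.mem_compl.mp (hv hz))
        have h2 := Perm.notMem_support.mp (Finset.mem_compl.mp (hw hz))
        rw [Finset.mem_compl, Perm.notMem_support, Perm.mul_apply, h2, h1]
    have e1 := hsemi _ (mul_mem (mul_mem hgG huG) h1) (by rw [map_mul, hsn, hodd s' hs']; decide)
      (hcard _ (hprod _ _ hfix hTs'))
    have e2 := hsemi _ (mul_mem (mul_mem hgG huG) (mul_mem hgG huG))
      (by rw [map_mul, hsn]; decide) (hcard _ (hprod _ _ hfix hfix))
    exact mul_left_cancel (e1.trans e2.symm)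
  choose! f hfS hfT hfu using hex
  have h66 : S.card = 66 := by
    have h := Finset.card_eq_sum_card_fiberwise (s := (Finset.univ : Finset α).powersetCard 4)
      (t := S) (f := f) (fun T hT => hfS T hT)
    have hfib : ∀ s ∈ S,
        (((Finset.univ : Finset α).powersetCard 4).filter fun T => f T = s).card = 5 := by
      intro s hs
      have : (((Finset.univ : Finset α).powersetCard 4).filter fun T => f T = s) =
          s.supportᶜ.powersetCard 4 := by
        ext T
        simp only [Finset.mem_filter, Finset.mem_powersetCard, Finset.subset_univ, true_and]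
        constructor
        · rintro ⟨h1, rfl⟩
          exact ⟨hfT T (Finset.mem_powersetCard.mpr ⟨Finset.subset_univ _, h1⟩), h1⟩
        · exact fun h => ⟨h.2, (hfu T (Finset.mem_powersetCard.mpr ⟨Finset.subset_univ _, h.2⟩)
            s hs h.1).symm⟩
      rw [this, Finset.card_powersetCard, hsix s hs]
      rfl
    rw [Finset.sum_congr rfl hfib, Finset.sum_const, Finset.card_powersetCard, Finset.card_univ,
      hα, smul_eq_mul, show Nat.choose 11 4 = 330 by decide] at h
    omega
  obtain ⟨x, hx⟩ := exists_prime_orderOf_dvd_card' 5 (G := H) (by rw [hc]; norm_num)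
  have hx' : orderOf (x : Perm α) = 5 := by rw [Subgroup.orderOf_coe, hx]
  have hprimH : IsPreprimitive H α :=
    IsPreprimitive.of_prime_card (by rw [Nat.card_eq_fintype_card, hα]; norm_num)
  obtain ⟨-, hs⟩ := support_of_orderOf_five hα hprimH hA x.2 hx'
  obtain ⟨a, hfa, hfu'⟩ := fixed_unique hα hs
  have hxG : (x : Perm α) ∈ G := ((hHG _).mp x.2).1
  set σ : Perm (Perm α) := (MulAut.conj (x : Perm α)).toEquiv with hσ
  have hσv : ∀ s, σ s = (x : Perm α) * s * (x : Perm α)⁻¹ := fun s => rfl
  have hpow : ∀ (n : ℕ) (s : Perm α),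
      (σ ^ n) s = (x : Perm α) ^ n * s * ((x : Perm α) ^ n)⁻¹ := by
    intro n
    induction n with
    | zero => intro s; simp
    | succ n ih => intro s; rw [pow_succ, Perm.mul_apply, ih, hσv, pow_succ]; group
  have hσ5 : σ ^ 5 = 1 := Equiv.ext fun s => by
    rw [hpow, ← hx', pow_orderOf_eq_one]; simp
  have hinv : ∀ s, σ s ∈ S ↔ s ∈ S := by
    intro s
    rw [hσv, hmemS, hmemS, Perm.card_support_conj, ne_eq, conj_eq_one_iff]
    refine and_congr_left fun _ => ⟨fun h => ?_, fun h => mul_mem (mul_mem hxG h) (inv_mem hxG)⟩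
    simpa [mul_assoc] using mul_mem (mul_mem (inv_mem hxG) h) hxG
  have hmod := card_filter_fixed_modEq σ hσ5 S hinv
  rw [h66] at hmod
  obtain ⟨s, hsm⟩ : (S.filter fun s => σ s = s).Nonempty := by
    rw [← Finset.card_pos]
    by_contra h0
    rw [Nat.le_zero.mp (not_lt.mp h0)] at hmod
    exact absurd hmod (by decide)
  obtain ⟨hsS, hsx⟩ := Finset.mem_filter.mp hsm
  rw [hσv, mul_inv_eq_iff_eq_mul] at hsx
  have hcomm : ∀ z, (x : Perm α) (s z) = s ((x : Perm α) z) := fun z => by
    simpa using congrArg (fun v : Perm α => v z) hsx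
  have hsa : s a = a := hfu' _ (by rw [hcomm, hfa])
  have hmod2 := card_filter_fixed_modEq (p := 5) (x : Perm α) (hx' ▸ pow_orderOf_eq_one _)
    s.supportᶜ (fun z => by
      simp only [Finset.mem_compl, Perm.notMem_support]
      rw [← hcomm, (x : Perm α).injective.eq_iff])
  have hone : (s.supportᶜ.filter fun z => (x : Perm α) z = z) = {a} := by
    ext z
    simp only [Finset.mem_filter, Finset.mem_compl, Perm.notMem_support, Finset.mem_singleton]
    exact ⟨fun h => hfu' z h.2, fun h => h ▸ ⟨hsa, hfa⟩⟩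
  rw [hone, Finset.card_singleton, hsix s hsS] at hmod2
  exact absurd hmod2 (by decide)

end CfsgLib.SmallGroups.DegreeEleven
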