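import Cfsg.Agent.Lib.SmallGroups.DegreeSeven
import Cfsg.Agent.Lib.SmallGroups.KpAddR
import Mathlib

/-!
Permutation groups of degree eleven: elements of small support, elements of order five and two.
-/

set_option autoImplicit false

namespace CfsgLib.SmallGroups.DegreeEleven

open Equiv MulAction

variable {α : Type*} [Fintype α] [DecidableEq α]

/-- Fixed points of a `p`-power order permutation in an invariant finite set. -/
theorem card_filter_fixed_modEq {p : ℕ} [Fact p.Prime] (σ : Perm α) (hσ : σ ^ p = 1)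
    (S : Finset α) (hS : ∀ z, σ z ∈ S ↔ z ∈ S) :
    (S.filter fun z => σ z = z).card ≡ S.card [MOD p] := by
  set τ : Perm {z // z ∈ S} := σ.subtypePerm hS with hτ
  have hτp : τ ^ p ^ 1 = 1 := by
    rw [pow_one, hτ, Perm.subtypePerm_pow]
    ext z
    simp [hσ]
  have h := Perm.card_compl_support_modEq hτp
  rw [Fintype.card_coe] at h
  convert h using 1
  symm
  refine Finset.card_bij (fun z _ => (z : α)) ?_ ?_ ?_
  · intro z hz
    simp only [Finset.mem_compl, Perm.mem_support, ne_eq, not_not] at hz
    exact Finset.mem_filter.mpr ⟨z.2, congrArg Subtype.val hz⟩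
  · intro a _ b _ e
    exact Subtype.ext e
  · intro b hb
    obtain ⟨hb1, hb2⟩ := Finset.mem_filter.mp hb
    exact ⟨⟨b, hb1⟩, by simp [Perm.mem_support, hτ, Subtype.ext_iff, hb2], rfl⟩

theorem swap_commute {a b c d : α} (hac : a ≠ c) (had : a ≠ d) (hbc : b ≠ c) (hbd : b ≠ d) :
    Commute (swap a b) (swap c d) := by
  show swap a b * swap c d = swap c d * swap a b
  rw [Equiv.mul_swap_eq_swap_mul, swap_apply_of_ne_of_ne hac.symm hbc.symm,
    swap_apply_of_ne_of_ne had.symm hbd.symm]

/-- A three-transitive group of degree at least eleven with a product of two disjoint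
transpositions contains the alternating group. -/
theorem alternating_le_of_double {G : Subgroup (Perm α)} (hG : IsMultiplyPretransitive G α 3)
    (hn : 11 ≤ Fintype.card α) {p q r s : α} (hpq : p ≠ q) (hrs : r ≠ s) (hpr : p ≠ r)
    (hps : p ≠ s) (hqr : q ≠ r) (hqs : q ≠ s) (ht : swap p q * swap r s ∈ G) :
    alternatingGroup α ≤ G := by
  classical
  have hprim := isPreprimitive_of_isMultiplyPretransitive hG (by norm_num) (by omega)
  have h4 : ({p, q, r, s} : Finset α).card = 4 := by simp [hpq, hpr, hps, hqr, hqs, hrs]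
  obtain ⟨e, he⟩ : ∃ e, e ∉ ({p, q, r, s} : Finset α) :=
    not_forall.1 fun hall => by
      rw [Finset.eq_univ_iff_forall.2 hall, Finset.card_univ] at h4
      omega
  set R := ({p, q, r, s, e} : Finset α)ᶜ with hR
  have hRc : 6 ≤ R.card := by
    have := Finset.card_insert_le p ({q, r, s, e} : Finset α)
    have := Finset.card_le_four (a := q) (b := r) (c := s) (d := e)
    rw [hR, Finset.card_compl]
    omega
  simp only [Finset.mem_insert, Finset.mem_singleton, not_or] at he
  obtain ⟨hep, heq, her, hes⟩ := he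
  have hR' : ∀ x ∈ R, x ≠ p ∧ x ≠ q ∧ x ≠ r ∧ x ≠ s ∧ x ≠ e := by
    intro x hx
    simpa [hR, Finset.mem_compl, not_or] using hx
  by_contra hA
  have key : ∀ x ∈ R, ∃ w, (w = q ∨ w = r ∨ w = s) ∧ swap p e * swap x w ∈ G := by
    intro x hx
    obtain ⟨hxp, hxq, hxr, hxs, hxe⟩ := hR' x hx
    obtain ⟨g, hg, hgv⟩ := exists_mem_eq_on_finset hG (by omega) {p, q, r} Finset.card_le_three
      (fun z => if z = p then p else if z = q then e else x) (by
        intro u hu v hv huv
        simp only [Finset.coe_insert, Finset.coe_singleton, Set.mem_insert_iff,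
          Set.mem_singleton_iff] at hu hv
        rcases hu with rfl | rfl | rfl <;> rcases hv with rfl | rfl | rfl <;>
          simp_all [eq_comm])
    have gp : g p = p := by simpa using hgv p (by simp)
    have gq : g q = e := by simpa [hpq.symm] using hgv q (by simp)
    have gr : g r = x := by simpa [hpr.symm, hqr.symm] using hgv r (by simp)
    have hconj : g * (swap p q * swap r s) * g⁻¹ = swap p e * swap x (g s) := by
      have e1 : g * swap p q = swap p e * g := by rw [Equiv.mul_swap_eq_swap_mul, gp, gq]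
      have e2 : g * swap r s = swap x (g s) * g := by rw [Equiv.mul_swap_eq_swap_mul, gr]
      rw [← mul_assoc, e1, mul_assoc (swap p e), e2, mul_assoc, mul_assoc, mul_inv_cancel, mul_one]
    have hwp : g s ≠ p := fun h => hps (g.injective (gp.trans h.symm))
    have hwe : g s ≠ e := fun h => hqs (g.injective (gq.trans h.symm))
    have hwx : g s ≠ x := fun h => hrs (g.injective (gr.trans h.symm))
    have hmem : swap p e * swap x (g s) ∈ G := hconj ▸ mul_mem (mul_mem hg ht) (inv_mem hg)
    refine ⟨g s, ?_, hmem⟩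
    by_contra hw
    simp only [not_or] at hw
    obtain ⟨hwq, hwr, hws⟩ := hw
    set w := g s with hw'
    apply hA
    have c1 : Commute (swap r s) (swap p e) :=
      swap_commute hpr.symm (Ne.symm her) hps.symm (Ne.symm hes)
    have c2 : Commute (swap r s) (swap x w) :=
      swap_commute (Ne.symm hxr) (Ne.symm hwr) (Ne.symm hxs) (Ne.symm hws)
    have c3 : Commute (swap p q) (swap x w) :=
      swap_commute (Ne.symm hxp) (Ne.symm hwp) (Ne.symm hxq) (Ne.symm hwq)
    have c4 : Commute (swap p e) (swap x w) :=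
      swap_commute (Ne.symm hxp) (Ne.symm hwp) (Ne.symm hxe) (Ne.symm hwe)
    have c5 : Commute (swap p q) (swap r s) := swap_commute hpr hps hqr hqs
    have h1 : (swap p q * swap r s) * (swap p e * swap x w) =
        (swap p q * swap p e) * (swap r s * swap x w) := c1.mul_mul_mul_comm _ _
    have hBB : (swap r s * swap x w) * (swap r s * swap x w) = 1 := by
      rw [c2.symm.mul_mul_mul_comm, swap_mul_self, swap_mul_self, one_mul]
    have hAB : Commute (swap r s * swap x w) (swap p q * swap p e) :=
      Commute.mul_left (c5.symm.mul_right c1) (c3.symm.mul_right c4.symm)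
    have h2 : (swap p q * swap r s) * (swap p e * swap x w) *
        ((swap p q * swap r s) * (swap p e * swap x w)) =
        (swap p q * swap p e) * (swap p q * swap p e) := by
      rw [h1, hAB.mul_mul_mul_comm, hBB, mul_one]
    exact Perm.alternatingGroup_le_of_isPreprimitive_of_isThreeCycle_mem hprim
      (Perm.IsThreeCycle.isThreeCycle_sq (Perm.isThreeCycle_swap_mul_swap_same hpq (Ne.symm hep) (Ne.symm heq)))
      (h2 ▸ mul_mem (mul_mem ht hmem) (mul_mem ht hmem))
  choose! w hw hwm using key
  obtain ⟨x, hx, y, hy, hxy, hwxy⟩ := Finset.exists_ne_map_eq_of_card_lt_of_maps_to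
    (s := R) (t := ({q, r, s} : Finset α)) (f := w) (by
      have := Finset.card_le_three (a := q) (b := r) (c := s)
      omega) (fun x hx => by simpa using hw x hx)
  have hwx := hw x hx
  obtain ⟨hxp, hxq, hxr, hxs, hxe⟩ := hR' x hx
  obtain ⟨hyp, hyq, hyr, hys, hye⟩ := hR' y hy
  have n1 : w x ≠ x := by rcases hwx with h | h | h <;> rw [h] <;> exact Ne.symm ‹_›
  have n2 : w x ≠ y := by rcases hwx with h | h | h <;> rw [h] <;> exact Ne.symm ‹_›
  have n3 : w x ≠ p := by
    rcases hwx with h | h | h <;> rw [h] <;> [exact hpq.symm; exact hpr.symm; exact hps.symm]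
  have n4 : w x ≠ e := by
    rcases hwx with h | h | h <;> rw [h] <;>
      [exact Ne.symm heq; exact Ne.symm her; exact Ne.symm hes]
  have c : Commute (swap x (w x)) (swap p e) := swap_commute hxp hxe n3 n4
  have h2 : (swap p e * swap x (w x)) * (swap p e * swap y (w x)) =
      swap (w x) x * swap (w x) y := by
    rw [c.mul_mul_mul_comm, swap_mul_self, one_mul, swap_comm x, swap_comm y]
  have hm := mul_mem (hwm x hx) (hwxy ▸ hwm y hy)
  rw [h2] at hm
  exact hA (Perm.alternatingGroup_le_of_isPreprimitive_of_isThreeCycle_mem hprim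
    (Perm.isThreeCycle_swap_mul_swap_same n1 n2 hxy) hm)

/-- The support of an involution. -/
theorem support_involution {u : Perm α} (hu : orderOf u = 2) :
    ∃ j, 0 < j ∧ u.support.card = 2 * j ∧ Perm.sign u = (-1) ^ j := by
  obtain ⟨j, hj⟩ := Perm.cycleType_prime_order (σ := u) (by rw [hu]; exact Nat.prime_two)
  rw [hu] at hj
  refine ⟨j + 1, Nat.succ_pos _, ?_, ?_⟩
  · rw [← u.sum_cycleType, hj, Multiset.sum_replicate, smul_eq_mul, mul_comm]
  · rw [Perm.sign_of_cycleType, hj, Multiset.sum_replicate, Multiset.card_replicate, smul_eq_mul,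
      show (j + 1) * 2 + (j + 1) = 2 * (j + 1) + (j + 1) by ring, pow_add, pow_mul]
    simp

theorem two_mul_swaps {u : Perm α} (hu : orderOf u = 2) (h4 : u.support.card = 4) :
    ∃ p q r s : α, p ≠ q ∧ r ≠ s ∧ p ≠ r ∧ p ≠ s ∧ q ≠ r ∧ q ≠ s ∧ u = swap p q * swap r s := by
  have huu : ∀ z, u (u z) = z := fun z => by
    have := congrArg (fun v : Perm α => v z) (pow_orderOf_eq_one u)
    rw [hu] at this
    simpa [pow_two] using this
  obtain ⟨a, ha⟩ : ∃ a, a ∈ u.support := Finset.card_pos.1 (by omega)
  obtain ⟨c, hc⟩ : ∃ c, c ∈ u.support \ {a, u a} := by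
    refine Finset.card_pos.1 ?_
    have := Finset.le_card_sdiff ({a, u a} : Finset α) u.support
    have := Finset.card_le_two (a := a) (b := u a)
    omega
  simp only [Finset.mem_sdiff, Finset.mem_insert, Finset.mem_singleton, not_or] at hc
  obtain ⟨hcs, hca, hcb⟩ := hc
  have hab : a ≠ u a := fun e => Perm.mem_support.1 ha e.symm
  have hcd : c ≠ u c := fun e => Perm.mem_support.1 hcs e.symm
  have had : a ≠ u c := fun e => hcb (by rw [e, huu])
  have hbd : u a ≠ u c := fun e => hca (u.injective e).symm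
  refine ⟨a, u a, c, u c, hab, hcd, Ne.symm hca, had, Ne.symm hcb, hbd, ?_⟩
  have hsupp : ({a, u a, c, u c} : Finset α) = u.support := by
    refine Finset.eq_of_subset_of_card_le ?_ ?_
    · intro z hz
      simp only [Finset.mem_insert, Finset.mem_singleton] at hz
      rcases hz with rfl | rfl | rfl | rfl
      · exact ha
      · exact Perm.apply_mem_support.2 ha
      · exact hcs
      · exact Perm.apply_mem_support.2 hcs
    · rw [h4]; simp [hab, Ne.symm hca, had, Ne.symm hcb, hbd, hcd]
  refine Equiv.ext fun z => ?_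
  by_cases hz : z ∈ u.support
  · rw [← hsupp] at hz
    simp only [Finset.mem_insert, Finset.mem_singleton] at hz
    rcases hz with rfl | rfl | rfl | rfl
    · simp [Equiv.swap_apply_of_ne_of_ne (Ne.symm hca) had]
    · simp [Equiv.swap_apply_of_ne_of_ne (Ne.symm hcb) hbd, huu]
    · simp [Equiv.swap_apply_of_ne_of_ne (Ne.symm had) (Ne.symm hbd)]
    · simp [Equiv.swap_apply_of_ne_of_ne hca hcb, huu]
  · have hz' := hz
    rw [← hsupp] at hz'
    simp only [Finset.mem_insert, Finset.mem_singleton, not_or] at hz'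
    obtain ⟨z1, z2, z3, z4⟩ := hz'
    rw [Perm.notMem_support.1 hz, Perm.mul_apply, Equiv.swap_apply_of_ne_of_ne z3 z4,
      Equiv.swap_apply_of_ne_of_ne z1 z2]

variable {G : Subgroup (Perm α)}

theorem support_of_orderOf_five (hα : Fintype.card α = 11) (hprim : IsPreprimitive G α)
    (hA : ¬ alternatingGroup α ≤ G) {x : Perm α} (hx : x ∈ G) (h5 : orderOf x = 5) :
    x.cycleType = Multiset.replicate 2 5 ∧ x.support.card = 10 := by
  obtain ⟨j, hj⟩ := Perm.cycleType_prime_order (σ := x) (by rw [h5]; norm_num)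
  rw [h5] at hj
  have hs : x.support.card = (j + 1) * 5 := by
    rw [← x.sum_cycleType, hj, Multiset.sum_replicate, smul_eq_mul]
  have hle : x.support.card ≤ 11 := hα ▸ Finset.card_le_univ _
  rcases Nat.eq_zero_or_pos j with rfl | hjp
  · refine absurd (Cfsg.Agent.S0713.result G hprim (p := 5) (by norm_num) (by omega) (by omega)
      ?_ (by omega) hx) hA
    rw [← Perm.card_cycleType_eq_one, hj, Multiset.card_replicate]
  · obtain rfl : j = 1 := by omega
    exact ⟨hj, hs⟩

theorem fixed_unique (hα : Fintype.card α = 11) {x : Perm α} (hx : x.support.card = 10) :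
    ∃ a, x a = a ∧ ∀ z, x z = z → z = a := by
  obtain ⟨a, ha⟩ := Finset.card_eq_one.mp (show x.supportᶜ.card = 1 by
    rw [Finset.card_compl, hx, hα])
  have hmem : ∀ z, x z = z ↔ z = a := fun z => by
    rw [← Perm.notMem_support, ← Finset.mem_compl, ha, Finset.mem_singleton]
  exact ⟨a, (hmem a).mpr rfl, fun z => (hmem z).mp⟩

theorem not_seven_dvd (hα : Fintype.card α = 11) (hprim : IsPreprimitive G α)
    (hA : ¬ alternatingGroup α ≤ G) : ¬ 7 ∣ Nat.card G := by
  intro h
  haveI : Fact (Nat.Prime 7) := ⟨by norm_num⟩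
  obtain ⟨g, hg⟩ := exists_prime_orderOf_dvd_card' 7 h
  rw [← Subgroup.orderOf_coe] at hg
  have hn : Fintype.card α < 2 * 7 := by omega
  refine hA (Cfsg.Agent.S0713.result G hprim (p := 7) (by norm_num) (by omega) (by omega)
    ?_ (card_support_of_orderOf_eq hn hg) g.2)
  rw [← Perm.card_cycleType_eq_one, cycleType_eq_singleton_of_orderOf_eq hn hg,
    Multiset.card_singleton]

theorem not_twentyfive_dvd (hα : Fintype.card α = 11) (hprim : IsPreprimitive G α)
    (hA : ¬ alternatingGroup α ≤ G) : ¬ 25 ∣ Nat.card G := by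
  intro h25
  haveI : Fact (Nat.Prime 5) := ⟨Nat.prime_five⟩
  have hf : (Nat.card (Perm α)).factorization 5 = 2 := by
    rw [Nat.card_perm, Nat.card_eq_fintype_card, hα]
    have h : ¬ 5 ^ 3 ∣ Nat.factorial 11 := by decide
    have h' : 5 ^ 2 ∣ Nat.factorial 11 := by decide
    rw [Nat.prime_five.pow_dvd_iff_le_factorization (Nat.factorial_ne_zero 11)] at h h'
    omega
  obtain ⟨c, hc⟩ : ∃ c : Perm α, c.cycleType = {5} :=
    (Perm.exists_with_cycleType_iff α).mpr ⟨by simp; omega, by simp⟩
  obtain ⟨g, hg⟩ := exists_conj_mem_of_pow_dvd (p := 5) G (by rw [hf]; exact h25) (x := c)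
    (IsPGroup.of_card (n := 1) (by
      rw [Nat.card_zpowers, ← Perm.lcm_cycleType, hc]; simp))
  have hgc : (g * c * g⁻¹).cycleType = {5} := by rw [Perm.cycleType_conj, hc]
  refine hA (Cfsg.Agent.S0713.result G hprim (p := 5) Nat.prime_five (by omega) (by omega)
    ?_ ?_ hg)
  · rw [← Perm.card_cycleType_eq_one, hgc, Multiset.card_singleton]
  · rw [← Perm.sum_cycleType, hgc, Multiset.sum_singleton]

theorem not_eightyone_dvd (hα : Fintype.card α = 11) (hprim : IsPreprimitive G α)
    (hA : ¬ alternatingGroup α ≤ G) : ¬ 81 ∣ Nat.card G := by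
  intro h81
  haveI : Fact (Nat.Prime 3) := ⟨Nat.prime_three⟩
  have hf : (Nat.card (Perm α)).factorization 3 = 4 := by
    rw [Nat.card_perm, Nat.card_eq_fintype_card, hα]
    have h : ¬ 3 ^ 5 ∣ Nat.factorial 11 := by decide
    have h' : 3 ^ 4 ∣ Nat.factorial 11 := by decide
    rw [Nat.prime_three.pow_dvd_iff_le_factorization (Nat.factorial_ne_zero 11)] at h h'
    omega
  obtain ⟨a, b, c, h⟩ := Finset.two_lt_card_iff.mp (show 2 < (Finset.univ : Finset α).card by
    rw [Finset.card_univ, hα]; norm_num)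
  have h3 : (swap a b * swap a c).IsThreeCycle :=
    Perm.isThreeCycle_swap_mul_swap_same h.2.2.2.1 h.2.2.2.2.1 h.2.2.2.2.2
  obtain ⟨g, hg⟩ := exists_conj_mem_of_pow_dvd (p := 3) G (by rw [hf]; exact h81)
    (x := swap a b * swap a c)
    (IsPGroup.of_card (n := 1) (by rw [Nat.card_zpowers, h3.orderOf, pow_one]))
  refine hA (Perm.alternatingGroup_le_of_isPreprimitive_of_isThreeCycle_mem hprim ?_ hg)
  rw [Perm.IsThreeCycle, Perm.cycleType_conj]
  exact h3

end CfsgLib.SmallGroups.DegreeEleven
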