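import Cfsg.Agent.Lib.SmallGroups.DegreeEleven.Order
import Mathlib

/-!
An element of order four fixing exactly three points in the group of order `7920`.
-/

set_option autoImplicit false

namespace CfsgLib.SmallGroups.DegreeEleven

open Equiv MulAction

variable {α : Type*} [Fintype α] [DecidableEq α]

/-- A permutation of order four without transpositions moving eight points is even. -/
theorem sign_eq_one_of_square_support {w : Perm α} (h4 : w ^ 4 = 1)
    (h2 : ∀ z, w (w z) = z → w z = z) (h8 : w.support.card = 8) : Perm.sign w = 1 := by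
  have hall : ∀ n ∈ w.cycleType, n = 4 := by
    intro n hn
    have hdvd : n ∣ 4 := (Perm.dvd_of_mem_cycleType hn).trans (orderOf_dvd_of_pow_eq_one h4)
    have htwo := Perm.two_le_of_mem_cycleType hn
    have hle := Nat.le_of_dvd (by norm_num) hdvd
    by_contra hne
    obtain rfl : n = 2 := by interval_cases n <;> omega
    rw [Perm.cycleType_def, Multiset.mem_map] at hn
    obtain ⟨c, hc, hcc⟩ := hn
    replace hc : c ∈ w.cycleFactorsFinset := hc
    obtain ⟨hcyc, hcw⟩ := Perm.mem_cycleFactorsFinset_iff.mp hc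
    have hcard : c.support.card = 2 := hcc
    obtain ⟨u, hu⟩ : ∃ u, u ∈ c.support := Finset.card_pos.mp (by omega)
    have hu' : c u ∈ c.support := Perm.apply_mem_support.mpr hu
    have hcc2 : c (c u) = u := by
      have h := pow_orderOf_eq_one c
      rw [hcyc.orderOf, hcard] at h
      simpa [pow_two] using congrArg (fun v : Perm α => v u) h
    have h := h2 u (by rw [← hcw u hu, ← hcw (c u) hu', hcc2])
    rw [← hcw u hu] at h
    exact Perm.mem_support.mp hu h
  have hrep := Multiset.eq_replicate_card.mpr hall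
  have hsum := w.sum_cycleType
  rw [h8, hrep, Multiset.sum_replicate, smul_eq_mul] at hsum
  have hc : Multiset.card w.cycleType = 2 := by omega
  rw [Perm.sign_of_cycleType, Perm.sum_cycleType, h8, hc]
  decide

variable {H : Subgroup (Perm α)}

theorem exists_four_element (hα : Fintype.card α = 11) (hprim : IsPreprimitive H α)
    (hA : ¬ alternatingGroup α ≤ H) (hH : H ≤ alternatingGroup α) (hc : Nat.card H = 7920) :
    ∃ (y : Perm α) (a b c : α), y ∈ H ∧ a ≠ b ∧ a ≠ c ∧ b ≠ c ∧ y a = a ∧ y b = b ∧ y c = c ∧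
      (y ^ 2) ^ 2 = 1 ∧ ∀ z, y (y z) = z → z = a ∨ z = b ∨ z = c := by
  classical
  haveI : Fact (Nat.Prime 5) := ⟨Nat.prime_five⟩
  haveI : Fact (Nat.Prime 2) := ⟨Nat.prime_two⟩
  obtain ⟨Q⟩ : Nonempty (Sylow 5 H) := inferInstance
  obtain ⟨hQ, hQN⟩ := card_normalizer_five hα hprim hA hH Q (by rw [hc]; norm_num)
  set N := Subgroup.normalizer ((Q : Subgroup H) : Set H) with hN
  have hN20 : Nat.card N = 20 := by
    have hm5 : Nat.card N * Nat.card (Sylow 5 H) = Nat.card H := by
      rw [Q.card_eq_index_normalizer]; exact Subgroup.card_mul_index _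
    have h51 : Nat.card (Sylow 5 H) % 5 = 1 := card_sylow_modEq_one 5 H
    simp only [Finset.mem_insert, Finset.mem_singleton] at hQN
    rcases hQN with h | h | h <;> rw [h, hc] at hm5 <;> omega
  obtain ⟨x, hx, hxQ⟩ := exists_zpowers_of_card_prime hQ
  have hx' : orderOf (x : Perm α) = 5 := by rw [Subgroup.orderOf_coe, hx]
  obtain ⟨hct, hs⟩ := support_of_orderOf_five hα hprim hA x.2 hx'
  obtain ⟨a, hfa, hfu⟩ := fixed_unique hα hs
  have hC := card_centralizer_five hα hprim hA hH x hx
  have hx5 : (x : Perm α) ^ 5 = 1 := hx' ▸ pow_orderOf_eq_one _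
  have hmem : ∀ g : N, (g : H) * x * (g : H)⁻¹ ∈ Subgroup.zpowers x := fun g =>
    hxQ ▸ (g.2 x).mp (hxQ ▸ Subgroup.mem_zpowers x)
  have hNa : ∀ g : N, ((g : H) : Perm α) a = a := by
    intro g
    obtain ⟨k, hk⟩ := Subgroup.mem_zpowers_iff.mp (hmem g⁻¹)
    have h1 := congrArg (fun v : H => (v : Perm α) a) hk
    simp only [Subgroup.coe_inv, inv_inv, Subgroup.coe_mul, Perm.mul_apply,
      Subgroup.coe_zpow] at h1
    rw [Perm.zpow_apply_eq_self_of_apply_eq_self hfa, eq_comm, Perm.inv_eq_iff_eq] at h1
    exact hfu _ h1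
  obtain ⟨R, hR⟩ := Sylow.exists_subgroup_card_pow_prime 2 (G := N) (n := 2) (by rw [hN20]; norm_num)
  have hRorder : ∀ g : R, orderOf g ∣ 4 := fun g =>
    (orderOf_dvd_natCard g).trans (dvd_of_eq (hR.trans (by norm_num)))
  have hinvert : ∀ g : R, orderOf g = 2 → ((g : N) : H) * x * ((g : N) : H)⁻¹ = x⁻¹ := by
    intro g hg
    set t : H := ((g : N) : H) with ht
    have hto : orderOf t = 2 := by rw [ht, Subgroup.orderOf_coe, Subgroup.orderOf_coe, hg]
    have htt : t⁻¹ = t := inv_eq_of_mul_eq_one_left (by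
      rw [← pow_two, ← hto, pow_orderOf_eq_one])
    have hnc : t * x ≠ x * t := by
      intro h
      have h2 := orderOf_dvd_natCard
        (⟨t, Subgroup.mem_centralizer_singleton_iff.mpr h⟩ : Subgroup.centralizer ({x} : Set H))
      rw [Subgroup.orderOf_mk, hto, hC] at h2
      omega
    have hzm : t * x * t⁻¹ ∈ Subgroup.zpowers x := hmem g
    set w := t * x * t⁻¹ with hw
    have hcomm : w * x = x * w := by
      obtain ⟨k, hk⟩ := Subgroup.mem_zpowers_iff.mp hzm
      rw [← hk]
      exact ((Commute.refl x).zpow_left k).eq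
    have hzfix : t * (x * w) * t⁻¹ = x * w := by
      have htt1 : t * t = 1 := by rw [← pow_two, ← hto, pow_orderOf_eq_one]
      calc t * (x * w) * t⁻¹ = (t * x * t⁻¹) * ((t * t) * x * (t * t)⁻¹) := by rw [hw]; group
        _ = w * x := by rw [htt1, inv_one, mul_one, one_mul, hw]
        _ = x * w := hcomm
    by_contra hne
    have hz1 : x * w ≠ 1 := fun h => hne (eq_inv_of_mul_eq_one_right h)
    have hxw : x * w ∈ Subgroup.zpowers x := mul_mem (Subgroup.mem_zpowers x) hzm
    have hgen : Subgroup.zpowers (x * w) = Subgroup.zpowers x := by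
      apply Subgroup.eq_of_le_of_card_ge (Subgroup.zpowers_le.mpr hxw)
      rw [Nat.card_zpowers, Nat.card_zpowers, hx]
      have hd : orderOf (x * w) ∣ 5 := hx ▸ orderOf_dvd_of_mem_zpowers hxw
      have h5' := (Nat.dvd_prime Nat.prime_five).mp hd
      rw [orderOf_eq_one_iff] at h5'
      rcases h5' with h | h
      · exact absurd h hz1
      · rw [h]
    obtain ⟨k, hk⟩ := Subgroup.mem_zpowers_iff.mp
      (hgen ▸ Subgroup.mem_zpowers x : x ∈ Subgroup.zpowers (x * w))
    apply hnc
    rw [← hk]
    have hct : Commute t (x * w) := mul_inv_eq_iff_eq_mul.mp hzfix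
    exact (hct.zpow_right k).eq
  obtain ⟨y, hy⟩ : ∃ y : R, y ^ 2 ≠ 1 := by
    by_contra hall
    push Not at hall
    haveI : Nontrivial R := Finite.one_lt_card_iff_nontrivial.mp (by rw [hR]; norm_num)
    obtain ⟨g, hg⟩ := exists_ne (1 : R)
    obtain ⟨g', hg', hgg'⟩ : ∃ g' : R, g' ≠ 1 ∧ g' ≠ g := by
      haveI := Fintype.ofFinite R
      obtain ⟨g', hg'⟩ : ∃ g', g' ∈ (Finset.univ : Finset R) \ {1, g} := by
        refine Finset.card_pos.mp ?_
        have := Finset.le_card_sdiff ({1, g} : Finset R) Finset.univ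
        have := Finset.card_le_two (a := (1 : R)) (b := g)
        rw [Finset.card_univ, ← Nat.card_eq_fintype_card, hR] at *
        omega
      simp only [Finset.mem_sdiff, Finset.mem_insert, Finset.mem_singleton, not_or] at hg'
      exact ⟨g', hg'.2.1, hg'.2.2⟩
    have h1 := hinvert g (orderOf_eq_prime (hall g) hg)
    have h2 := hinvert g' (orderOf_eq_prime (hall g') hg')
    have hne : g * g' ≠ 1 := fun h => hgg' (by
      have := hall g
      rw [pow_two] at this
      exact mul_left_cancel (h.trans this.symm))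
    have h3 := hinvert (g * g') (orderOf_eq_prime (hall _) hne)
    have h4 : ((((g * g' : R) : N) : H)) * x * (((g * g' : R) : N) : H)⁻¹ = x := by
      push_cast
      calc ((g : N) : H) * ((g' : N) : H) * x * (((g : N) : H) * ((g' : N) : H))⁻¹
          = ((g : N) : H) * (((g' : N) : H) * x * ((g' : N) : H)⁻¹) * ((g : N) : H)⁻¹ := by group
        _ = x := by rw [h2, ← conj_inv, h1, inv_inv]
    rw [h4] at h3
    have : x ^ 2 = 1 := by rw [pow_two]; nth_rw 1 [h3]; rw [inv_mul_cancel]
    have hd := orderOf_dvd_of_pow_eq_one this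
    rw [hx] at hd
    omega
  have hy4 : y ^ 4 = 1 := orderOf_dvd_iff_pow_eq_one.mp (hRorder y)
  have hy2 : orderOf (y ^ 2) = 2 := orderOf_eq_prime (by rw [← pow_mul]; exact hy4) hy
  set Y : Perm α := (((y : N) : H) : Perm α) with hY
  set t : Perm α := Y ^ 2 with ht
  have htY : ((((y ^ 2 : R) : N) : H) : Perm α) = t := by simp [ht, hY]
  have hto : orderOf t = 2 := by
    rw [← htY, Subgroup.orderOf_coe, Subgroup.orderOf_coe, Subgroup.orderOf_coe, hy2]
  have htmem : t ∈ H := htY ▸ ((y ^ 2 : R) : N).1.2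
  have htx : t * (x : Perm α) * t⁻¹ = (x : Perm α)⁻¹ := by
    rw [← htY]
    exact congrArg Subtype.val (hinvert _ hy2)
  have hta : t a = a := htY ▸ hNa _
  have hle3 : (t.supportᶜ.erase a).card ≤ 2 := by
    have h2 : (x : Perm α).cycleFactorsFinset.card = 2 := by
      have := congrArg Multiset.card hct
      rw [Perm.cycleType_def, Multiset.card_map, Multiset.card_replicate] at this
      exact this
    rw [← h2]
    refine Finset.card_le_card_of_injOn (fun u => (x : Perm α).cycleOf u) ?_ ?_
    · intro u hu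
      simp only [Finset.coe_erase, Set.mem_sdiff, Set.mem_singleton_iff, Finset.mem_coe] at hu
      exact Perm.cycleOf_mem_cycleFactorsFinset_iff.mpr
        (Perm.mem_support.mpr fun h => hu.2 (hfu u h))
    · intro u hu v hv huv
      simp only [Finset.coe_erase, Set.mem_sdiff, Set.mem_singleton_iff, Finset.mem_coe,
        Finset.mem_compl, Perm.notMem_support] at hu hv
      have huv' : (x : Perm α).cycleOf u = (x : Perm α).cycleOf v := huv
      have hsame : (x : Perm α).SameCycle u v := by
        have h : v ∈ ((x : Perm α).cycleOf u).support := by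
          rw [huv']
          exact Perm.mem_support_cycleOf_iff.mpr
            ⟨Perm.SameCycle.refl _ _, Perm.mem_support.mpr fun h => hv.2 (hfu v h)⟩
        exact (Perm.mem_support_cycleOf_iff.mp h).1
      obtain ⟨k, hk⟩ := hsame.exists_nat_pow_eq
      have hconj : t * (x : Perm α) ^ k = ((x : Perm α) ^ k)⁻¹ * t := by
        rw [← mul_inv_eq_iff_eq_mul, ← conj_pow, htx, inv_pow]
      have h1 := congrArg (fun z : Perm α => z u) hconj
      simp only [Perm.mul_apply] at h1
      rw [hk, hv.1, hu.1, Perm.eq_inv_iff_eq] at h1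
      rw [← hk, ← Perm.mul_apply, ← pow_add] at h1
      have h3 : ((x : Perm α) ^ (k + k)) ^ 3 = (x : Perm α) ^ k := by
        rw [← pow_mul, show (k + k) * 3 = 5 * k + k by ring, pow_add, pow_mul, hx5, one_pow, one_mul]
      rw [← hk, ← h3]
      exact (Perm.pow_apply_eq_self_of_apply_eq_self h1 3).symm
  have hts : t.support.card = 8 := by
    obtain ⟨j, hj0, hj, hjs⟩ := support_involution hto
    have hle : t.support.card ≤ 11 := hα ▸ Finset.card_le_univ _
    have hfix : a ∈ t.supportᶜ := by simp [hta]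
    rw [Finset.card_erase_of_mem hfix, Finset.card_compl, hα] at hle3
    rw [Perm.mem_alternatingGroup.mp (hH htmem)] at hjs
    have hj' : j = 4 ∨ j = 5 := by omega
    rcases hj' with rfl | rfl
    · omega
    · exact absurd hjs (by decide)
  obtain ⟨b, c, hbc, hbc'⟩ := Finset.card_eq_two.mp (show (t.supportᶜ.erase a).card = 2 by
    have hfix : a ∈ t.supportᶜ := by simp [hta]
    rw [Finset.card_erase_of_mem hfix, Finset.card_compl, hα, hts])
  have htfix : ∀ z, t z = z ↔ z = a ∨ z = b ∨ z = c := by
    intro z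
    rw [← Perm.notMem_support, ← Finset.mem_compl]
    constructor
    · intro h
      rcases eq_or_ne z a with rfl | hz
      · exact Or.inl rfl
      · have := Finset.mem_erase.mpr ⟨hz, h⟩
        rw [hbc'] at this
        simpa [hz] using this
    · rintro (rfl | rfl | rfl)
      · simp [hta]
      · exact Finset.mem_of_mem_erase (hbc' ▸ Finset.mem_insert_self _ _)
      · exact Finset.mem_of_mem_erase (hbc' ▸ Finset.mem_insert_of_mem (Finset.mem_singleton_self _))
  have hab : a ≠ b := fun h =>
    (Finset.mem_erase.mp (hbc' ▸ Finset.mem_insert_self _ _)).1 h.symm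
  have hac : a ≠ c := fun h => (Finset.mem_erase.mp
    (hbc' ▸ Finset.mem_insert_of_mem (Finset.mem_singleton_self _))).1 h.symm
  have hYa : Y a = a := hNa _
  have hYY : ∀ z, t z = Y (Y z) := fun z => by simp [ht, pow_two]
  have hYmap : ∀ z, t z = z → t (Y z) = Y z := by
    intro z hz
    rw [hYY] at hz ⊢
    rw [hz]
  have hYb : Y b = b := by
    rcases (htfix _).mp (hYmap b ((htfix b).mpr (Or.inr (Or.inl rfl)))) with h | h | h
    · exact absurd (Y.injective (hYa.trans h.symm)) hab
    · exact h
    exfalso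
    have hYc : Y c = b := by
      rw [← h, ← hYY]; exact (htfix b).mpr (Or.inr (Or.inl rfl))
    set w := Y * swap b c with hw
    have hcomm : Commute Y (swap b c) := by
      show Y * swap b c = swap b c * Y
      rw [Equiv.mul_swap_eq_swap_mul, h, hYc, swap_comm]
    have hw2 : w ^ 2 = t := by
      rw [hw, hcomm.mul_pow, pow_two (swap b c), swap_mul_self, mul_one]
    have hwfix : ∀ z, t z = z → w z = z := by
      intro z hz
      rw [hw, Perm.mul_apply]
      rcases (htfix z).mp hz with rfl | rfl | rfl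
      · rw [swap_apply_of_ne_of_ne hab hac, hYa]
      · rw [swap_apply_left, hYc]
      · rw [swap_apply_right, h]
    have hsup : w.support = t.support := by
      refine le_antisymm (fun z hz => ?_) (hw2 ▸ Perm.support_pow_le w 2)
      rw [Perm.mem_support] at hz ⊢
      exact fun h' => hz (hwfix z h')
    have hsw := sign_eq_one_of_square_support (w := w) (by
      rw [show 4 = 2 * 2 by norm_num, pow_mul, hw2, ← hto, pow_orderOf_eq_one]) (fun z hz =>
      hwfix z (by rw [← hw2, pow_two, Perm.mul_apply, hz])) (by rw [hsup, hts])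
    rw [hw, map_mul, Perm.mem_alternatingGroup.mp (hH (((y : N) : H).2)), Perm.sign_swap hbc] at hsw
    exact absurd hsw (by decide)
  refine ⟨Y, a, b, c, ((y : N) : H).2, hab, hac, hbc, hYa, hYb, ?_,
    by rw [← ht, ← hto, pow_orderOf_eq_one], fun z hz => (htfix z).mp (by rw [hYY]; exact hz)⟩
  rcases (htfix _).mp (hYmap c ((htfix c).mpr (Or.inr (Or.inr rfl)))) with h | h | h
  · exact absurd (Y.injective (hYa.trans h.symm)) hac
  · exact absurd (Y.injective (hYb.trans h.symm)) hbc
  · exact h

end CfsgLib.SmallGroups.DegreeEleven
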