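import Cfsg.Agent.Lib.SmallGroups.DegreeEleven.Basic
import Mathlib

/-!
The order of a non-solvable group of even permutations of degree eleven.
-/

set_option autoImplicit false

namespace CfsgLib.SmallGroups.DegreeEleven

open Equiv MulAction

variable {α : Type*} [Fintype α] [DecidableEq α] {H : Subgroup (Perm α)}

/-- Elements of order five are self-centralising up to their own powers. -/
theorem card_centralizer_five (hα : Fintype.card α = 11) (hprim : IsPreprimitive H α)
    (hA : ¬ alternatingGroup α ≤ H) (hH : H ≤ alternatingGroup α) (x : H) (hx : orderOf x = 5) :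
    Nat.card (Subgroup.centralizer ({x} : Set H)) = 5 := by
  haveI : Fact (Nat.Prime 5) := ⟨Nat.prime_five⟩
  have hx' : orderOf (x : Perm α) = 5 := by rw [Subgroup.orderOf_coe, hx]
  obtain ⟨hct, hs⟩ := support_of_orderOf_five hα hprim hA x.2 hx'
  set C := Subgroup.centralizer ({x} : Set H) with hC
  have h50 : Nat.card C ∣ 50 := by
    have h := Equiv.Perm.nat_card_centralizer (x : Perm α)
    rw [hct, hα] at h
    have h' : Nat.card (Subgroup.centralizer ({(x : Perm α)} : Set (Perm α))) = 50 := by
      rw [h]; decide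
    rw [← h', ← Subgroup.card_map_of_injective (K := C) H.subtype_injective]
    apply Subgroup.card_dvd_of_le
    rintro _ ⟨y, hy, rfl⟩
    have h1 := Subgroup.mem_centralizer_singleton_iff.mp hy
    exact Subgroup.mem_centralizer_singleton_iff.mpr (congrArg Subtype.val h1)
  have h25 : ¬ 25 ∣ Nat.card C := fun h =>
    not_twentyfive_dvd hα hprim hA (h.trans C.card_subgroup_dvd_card)
  have h5 : 5 ∣ Nat.card C := by
    rw [← hx, ← Subgroup.orderOf_mk x (Subgroup.mem_centralizer_singleton_iff.mpr rfl)]
    exact orderOf_dvd_natCard _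
  have h2 : ¬ 2 ∣ Nat.card C := by
    intro h
    haveI : Fact (Nat.Prime 2) := ⟨Nat.prime_two⟩
    obtain ⟨y, hy⟩ := exists_prime_orderOf_dvd_card' 2 h
    set u : Perm α := ((y : H) : Perm α) with hu
    have huo : orderOf u = 2 := by rw [hu, Subgroup.orderOf_coe, Subgroup.orderOf_coe, hy]
    have hsgn : Perm.sign u = 1 := Perm.mem_alternatingGroup.mp (hH (y : H).2)
    obtain ⟨j, hj0, hj, hjs⟩ := support_involution huo
    have hjev : Even j := by
      rw [hsgn] at hjs
      rcases Nat.even_or_odd j with he | ho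
      · exact he
      · rw [ho.neg_one_pow] at hjs; exact absurd hjs (by decide)
    have hle : u.support.card ≤ 11 := hα ▸ Finset.card_le_univ _
    have hcomm : ∀ z, (x : Perm α) (u z) = u ((x : Perm α) z) := fun z => by
      have h1 := congrArg Subtype.val (Subgroup.mem_centralizer_singleton_iff.mp y.2)
      have h2 := congrArg (fun v : Perm α => v z) h1
      exact h2.symm
    have hinv : ∀ z, (x : Perm α) z ∈ u.supportᶜ ↔ z ∈ u.supportᶜ := fun z => by
      simp only [Finset.mem_compl, Perm.notMem_support]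
      rw [← hcomm, (x : Perm α).injective.eq_iff]
    have hmod := card_filter_fixed_modEq (p := 5) (x : Perm α) (hx' ▸ pow_orderOf_eq_one _) _ hinv
    obtain ⟨a, hfa, hfu⟩ := fixed_unique hα hs
    have hua : u a = a := hfu _ (by rw [hcomm, hfa])
    have hone : (u.supportᶜ.filter fun z => (x : Perm α) z = z) = {a} := by
      ext z
      simp only [Finset.mem_filter, Finset.mem_compl, Perm.notMem_support, Finset.mem_singleton]
      exact ⟨fun h => hfu z h.2, fun h => h ▸ ⟨hua, hfa⟩⟩
    rw [hone, Finset.card_singleton, Finset.card_compl, hα, hj] at hmod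
    obtain ⟨i, rfl⟩ := hjev
    have : i = 1 ∨ i = 2 := by omega
    rcases this with rfl | rfl <;> exact absurd hmod (by decide)
  have key : ∀ c ∈ Nat.divisors 50, ¬ 25 ∣ c → 5 ∣ c → ¬ 2 ∣ c → c = 5 := by decide
  exact key _ (Nat.mem_divisors.mpr ⟨h50, by norm_num⟩) h25 h5 h2

/-- The normaliser of a subgroup of order five. -/
theorem card_normalizer_five (hα : Fintype.card α = 11) (hprim : IsPreprimitive H α)
    (hA : ¬ alternatingGroup α ≤ H) (hH : H ≤ alternatingGroup α) (P : Sylow 5 H)
    (h5 : 5 ∣ Nat.card H) :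
    Nat.card (P : Subgroup H) = 5 ∧
      Nat.card (Subgroup.normalizer ((P : Subgroup H) : Set H)) ∈ ({5, 10, 20} : Finset ℕ) := by
  haveI : Fact (Nat.Prime 5) := ⟨Nat.prime_five⟩
  have hP : Nat.card (P : Subgroup H) = 5 := by
    rw [P.card_eq_multiplicity]
    have h1 := (Nat.prime_five.dvd_iff_one_le_factorization Nat.card_pos.ne').mp h5
    have h2 : ¬ 2 ≤ (Nat.card H).factorization 5 := fun h => not_twentyfive_dvd hα hprim hA (by
      rw [show (25 : ℕ) = 5 ^ 2 by norm_num,
        Nat.prime_five.pow_dvd_iff_le_factorization Nat.card_pos.ne']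
      exact h)
    rw [show (Nat.card H).factorization 5 = 1 by omega, pow_one]
  refine ⟨hP, ?_⟩
  obtain ⟨x, hx, hxP⟩ := exists_zpowers_of_card_prime hP
  have hC : Subgroup.centralizer ((P : Subgroup H) : Set H) = Subgroup.centralizer {x} := by
    rw [hxP, Subgroup.zpowers_eq_closure, Subgroup.centralizer_closure]
  have h := card_normalizer_dvd_of_card_prime hP
  rw [hC, card_centralizer_five hα hprim hA hH x hx] at h
  have h5N : 5 ∣ Nat.card (Subgroup.normalizer ((P : Subgroup H) : Set H)) :=
    (dvd_of_eq hP.symm).trans (Subgroup.card_dvd_of_le Subgroup.le_normalizer)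
  have key : ∀ c ∈ Nat.divisors 20, 5 ∣ c → c ∈ ({5, 10, 20} : Finset ℕ) := by decide
  exact key _ (Nat.mem_divisors.mpr ⟨h, by norm_num⟩) h5N

theorem neg_eq_self_iff_zero : ∀ j : ZMod 11, -j = j ↔ j = 0 := by decide

section Eleven

variable [hp : Fact (Nat.Prime 11)] [IsPretransitive H α]

theorem card_sylow_normalizer_ne_eleven (hα : Fintype.card α = 11) (hns : ¬ Group.IsSolvable H)
    (P : Sylow 11 H) : Nat.card (Subgroup.normalizer ((P : Subgroup H) : Set H)) ≠ 11 := by
  intro h
  haveI : IsPreprimitive H α :=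
    IsPreprimitive.of_prime_card (by rw [Nat.card_eq_fintype_card, hα]; norm_num)
  have hPc : Nat.card (P : Subgroup H) = 11 := card_sylow_prime_degree hα H P
  haveI : IsCyclic (P : Subgroup H) := isCyclic_of_prime_card hPc
  have hle : Subgroup.normalizer ((P : Subgroup H) : Set H) ≤
      Subgroup.centralizer ((P : Subgroup H) : Set H) := by
    rw [← Subgroup.eq_of_le_of_card_ge Subgroup.le_normalizer (by rw [h, hPc])]
    intro x hx
    rw [Subgroup.mem_centralizer_iff]
    intro y hy
    letI := IsCyclic.commGroup (α := (P : Subgroup H))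
    exact congrArg Subtype.val (mul_comm (⟨y, hy⟩ : (P : Subgroup H)) ⟨x, hx⟩)
  have hcomp := MonoidHom.ker_transferSylow_isComplement' P hle
  set K := (MonoidHom.transferSylow P hle).ker with hK
  have hKc : Nat.card K * 11 = Nat.card H := by rw [← hPc]; exact hcomp.card_mul_card
  by_cases hfix : fixedPoints K α = Set.univ
  · have hKbot : K = ⊥ := by
      rw [eq_bot_iff]
      intro d hd
      refine Subgroup.mem_bot.mpr (Subtype.ext (Equiv.ext fun x => ?_))
      have hx : x ∈ fixedPoints K α := hfix ▸ Set.mem_univ x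
      exact hx ⟨d, hd⟩
    rw [hKbot, Subgroup.card_bot, one_mul] at hKc
    haveI : IsCyclic H := isCyclic_of_prime_card hKc.symm
    letI := IsCyclic.commGroup (α := H)
    exact hns inferInstance
  · haveI : IsPretransitive K α := IsQuasiPreprimitive.isPretransitive_of_normal hfix
    obtain ⟨a⟩ : Nonempty α := Fintype.card_pos_iff.mp (by omega)
    have h11K : 11 ∣ Nat.card K := by
      rw [← hα, ← Nat.card_eq_fintype_card (α := α),
        ← index_stabilizer_of_transitive (G := K) a]
      exact Subgroup.index_dvd_card _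
    exact not_sq_dvd_card hα H (hKc ▸ Nat.mul_dvd_mul_right h11K 11)

theorem card_sylow_normalizer (hα : Fintype.card α = 11) (hns : ¬ Group.IsSolvable H)
    (hH : H ≤ alternatingGroup α) (P : Sylow 11 H) :
    Nat.card (Subgroup.normalizer ((P : Subgroup H) : Set H)) = 55 := by
  have hPc : Nat.card (P : Subgroup H) = 11 := card_sylow_prime_degree hα H P
  have hd := card_normalizer_dvd_perm (p := 11) (by omega) hPc
  rw [hα] at hd
  have h11 : 11 ∣ Nat.card (Subgroup.normalizer ((P : Subgroup H) : Set H)) :=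
    (dvd_of_eq hPc.symm).trans (Subgroup.card_dvd_of_le Subgroup.le_normalizer)
  have hne := card_sylow_normalizer_ne_eleven hα hns P
  have hodd : ¬ 2 ∣ Nat.card (Subgroup.normalizer ((P : Subgroup H) : Set H)) := by
    intro h
    obtain ⟨σ, e, u, -, -, -, huH, hu⟩ := exists_negation hα (by norm_num) H P
      (even_iff_two_dvd.mpr h)
    have hfix : ∀ z, u z = z ↔ z = e 0 := by
      intro z
      obtain ⟨j, rfl⟩ := e.surjective z
      rw [hu, e.apply_eq_iff_eq, e.apply_eq_iff_eq]
      exact neg_eq_self_iff_zero j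
    have hsupp : u.support.card = 10 := by
      have : u.supportᶜ = {e 0} := by
        ext z
        rw [Finset.mem_compl, Perm.notMem_support, hfix, Finset.mem_singleton]
      have h := congrArg Finset.card this
      rw [Finset.card_compl, hα, Finset.card_singleton] at h
      have : u.support.card ≤ 11 := hα ▸ Finset.card_le_univ _
      omega
    have huo : orderOf u = 2 := by
      refine orderOf_eq_prime (Equiv.ext fun z => ?_) ?_
      · obtain ⟨j, rfl⟩ := e.surjective z
        simp [pow_two, hu]
      · intro h1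
        rw [h1, Perm.support_one] at hsupp
        simp at hsupp
    obtain ⟨j, -, hj, hjs⟩ := support_involution huo
    obtain rfl : j = 5 := by omega
    rw [Perm.mem_alternatingGroup.mp (hH huH)] at hjs
    exact absurd hjs (by decide)
  have key : ∀ c ∈ Nat.divisors ((11 - 1) * ((11 - 11).factorial * 11)),
      11 ∣ c → c ≠ 11 → ¬ 2 ∣ c → c = 55 := by decide
  exact key _ (Nat.mem_divisors.mpr ⟨hd, by decide⟩) h11 hne hodd

/-- Non-solvable groups of even permutations on eleven points have order `660` or `7920`. -/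
theorem card_eq (hα : Fintype.card α = 11) (hns : ¬ Group.IsSolvable H)
    (hA : ¬ alternatingGroup α ≤ H) (hH : H ≤ alternatingGroup α) :
    Nat.card H = 660 ∨ Nat.card H = 7920 := by
  have hprim : IsPreprimitive H α :=
    IsPreprimitive.of_prime_card (by rw [Nat.card_eq_fintype_card, hα]; norm_num)
  obtain ⟨P⟩ : Nonempty (Sylow 11 H) := inferInstance
  have hN := card_sylow_normalizer hα hns hH P
  obtain ⟨n, hn⟩ : ∃ n, Nat.card (Sylow 11 H) = n := ⟨_, rfl⟩
  have hmul : 55 * n = Nat.card H := by
    rw [← hn, ← hN, P.card_eq_index_normalizer]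
    exact Subgroup.card_mul_index _
  have hn1 : n % 11 = 1 := hn ▸ card_sylow_modEq_one 11 H
  have hdiv : 55 * n ∣ 19958400 := by
    haveI : Nontrivial α := Fintype.one_lt_card_iff_nontrivial.mp (by omega)
    rw [hmul]
    refine (Subgroup.card_dvd_of_le hH).trans (dvd_of_eq ?_)
    rw [nat_card_alternatingGroup, Nat.card_eq_fintype_card, hα]
    rfl
  have h5 : ¬ 5 ∣ n := fun h => not_twentyfive_dvd hα hprim hA (by
    rw [← hmul]; exact (show 25 ∣ 55 * n from by omega))
  have h7 : ¬ 7 ∣ n := fun h => not_seven_dvd hα hprim hA (by rw [← hmul]; omega)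
  have h81 : ¬ 81 ∣ n := fun h => not_eightyone_dvd hα hprim hA (by rw [← hmul]; omega)
  have h10368 : n ∣ 2 ^ 7 * 3 ^ 4 := by
    have hn' : n ∣ 35 * (2 ^ 7 * 3 ^ 4) :=
      Nat.dvd_of_mul_dvd_mul_left (show 0 < 55 by norm_num) (hdiv.trans (by norm_num))
    refine Nat.Coprime.dvd_of_dvd_mul_left ?_ hn'
    show Nat.Coprime n (5 * 7)
    exact Nat.Coprime.mul_right (((Nat.prime_five.coprime_iff_not_dvd).mpr h5).symm)
      ((((by norm_num : Nat.Prime 7)).coprime_iff_not_dvd.mpr h7).symm)
  obtain ⟨p1, p2, hp1, hp2, rfl⟩ := Nat.dvd_mul.mp h10368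
  obtain ⟨i, hi, rfl⟩ := (Nat.dvd_prime_pow Nat.prime_two).mp hp1
  obtain ⟨k, hk, rfl⟩ := (Nat.dvd_prime_pow Nat.prime_three).mp hp2
  have hcases : (i = 0 ∧ k = 0) ∨ (i = 2 ∧ k = 1) ∨ (i = 4 ∧ k = 2) ∨ (i = 6 ∧ k = 3) := by
    interval_cases i <;> interval_cases k <;> omega
  rcases hcases with ⟨rfl, rfl⟩ | ⟨rfl, rfl⟩ | ⟨rfl, rfl⟩ | ⟨rfl, rfl⟩
  · exfalso
    have hnorm : Subgroup.normalizer ((P : Subgroup H) : Set H) = ⊤ :=
      Subgroup.eq_top_of_card_eq _ (by rw [hN, ← hmul]; norm_num)
    haveI : (P : Subgroup H).Normal := Subgroup.normalizer_eq_top_iff.mp hnorm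
    have hPc : Nat.card (P : Subgroup H) = 11 := card_sylow_prime_degree hα H P
    haveI : IsCyclic (P : Subgroup H) := isCyclic_of_prime_card hPc
    letI := IsCyclic.commGroup (α := (P : Subgroup H))
    haveI : IsCyclic (H ⧸ (P : Subgroup H)) := isCyclic_of_prime_card (p := 5) (hp := ⟨Nat.prime_five⟩) (by
      have h := (P : Subgroup H).card_mul_index
      rw [hPc, ← hmul] at h
      rw [← Subgroup.index_eq_card]
      norm_num at h
      omega)
    letI := IsCyclic.commGroup (α := H ⧸ (P : Subgroup H))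
    exact hns (Group.isSolvable_of_ker_le_range (P : Subgroup H).subtype
      (QuotientGroup.mk' (P : Subgroup H)) (by simp))
  · left; rw [← hmul]; norm_num
  · right; rw [← hmul]; norm_num
  · exfalso
    haveI : Fact (Nat.Prime 5) := ⟨Nat.prime_five⟩
    obtain ⟨Q⟩ : Nonempty (Sylow 5 H) := inferInstance
    obtain ⟨-, hQN⟩ := card_normalizer_five hα hprim hA hH Q (by rw [← hmul]; omega)
    have hm5 : Nat.card (Subgroup.normalizer ((Q : Subgroup H) : Set H)) *
        Nat.card (Sylow 5 H) = Nat.card H := by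
      rw [Q.card_eq_index_normalizer]; exact Subgroup.card_mul_index _
    have h51 : Nat.card (Sylow 5 H) % 5 = 1 := card_sylow_modEq_one 5 H
    norm_num at hmul
    simp only [Finset.mem_insert, Finset.mem_singleton] at hQN
    rcases hQN with h | h | h <;> rw [h, ← hmul] at hm5 <;> omega

end Eleven

end CfsgLib.SmallGroups.DegreeEleven
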